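import Mathlib

/-!
A simple group with 22 Sylow 3-subgroups: basic action facts (helper77).
-/

set_option autoImplicit false

open scoped Pointwise

namespace CfsgLib.Components2.TwentyTwo

/-- Points fixed by an element of prime order in an invariant set. -/
theorem modEq_fixed {α : Type*} [Finite α] (σ : Equiv.Perm α) (p : ℕ) [hp : Fact p.Prime]
    (hσ : σ ^ p = 1) (Y : Set α) (hY : ∀ y ∈ Y, σ y ∈ Y) :
    Y.ncard ≡ {y | y ∈ Y ∧ σ y = y}.ncard [MOD p] := by
  classical
  letI := Fintype.ofFinite α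
  let τ : Equiv.Perm Y := Equiv.ofBijective (fun y => ⟨σ y, hY y y.2⟩) (Finite.injective_iff_bijective.1
    fun a b h => Subtype.ext (σ.injective (congrArg Subtype.val h)))
  have hτv : ∀ y : Y, (τ y : α) = σ y := fun y => rfl
  have hτn : ∀ (n : ℕ) (y : Y), ((τ ^ n) y : α) = (σ ^ n) y := by
    intro n
    induction n with
    | zero => exact fun y => rfl
    | succ n ih => intro y; rw [pow_succ', pow_succ', Equiv.Perm.mul_apply, Equiv.Perm.mul_apply, hτv, ih]
  have hτ : τ ^ p = 1 := Equiv.ext fun y => Subtype.ext (by rw [hτn, hσ]; rfl)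
  have hG : IsPGroup p (Subgroup.zpowers τ) := by
    rintro ⟨g, i, rfl⟩
    refine ⟨1, Subtype.ext ?_⟩
    show (τ ^ i) ^ p ^ 1 = 1
    rw [pow_one, ← zpow_natCast, ← zpow_mul, mul_comm, zpow_mul, zpow_natCast, hτ, one_zpow]
  have h := hG.card_modEq_card_fixedPoints Y
  rw [Nat.card_coe_set_eq] at h
  refine h.trans (?_ : _ % p = _ % p)
  refine (congrArg (fun n => n % p) ?_)
  rw [← Nat.card_coe_set_eq {y | y ∈ Y ∧ σ y = y}]
  refine Nat.card_congr
    { toFun := fun y => ⟨y.1, y.1.2, congrArg Subtype.val (y.2 ⟨τ, Subgroup.mem_zpowers τ⟩)⟩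
      invFun := fun y => ⟨⟨y.1, y.2.1⟩, fun g => ?_⟩
      left_inv := fun y => rfl
      right_inv := fun y => rfl }
  obtain ⟨g, i, rfl⟩ := g
  exact Equiv.Perm.zpow_apply_eq_self_of_apply_eq_self
    (show τ ⟨y.1, y.2.1⟩ = ⟨y.1, y.2.1⟩ from Subtype.ext y.2.2) i

/-- An involution moving `2 * k` points has sign `(-1) ^ k`. -/
theorem sign_of_sq_eq_one {α : Type*} [Fintype α] [DecidableEq α] (w : Equiv.Perm α)
    (hw : w ^ 2 = 1) {k : ℕ} (hk : w.support.card = 2 * k) :
    Equiv.Perm.sign w = (-1) ^ k := by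
  rcases Nat.eq_zero_or_pos k with rfl | hk0
  · have : w = 1 := Equiv.Perm.support_eq_empty_iff.1 (Finset.card_eq_zero.1 hk)
    simp [this]
  have hw1 : w ≠ 1 := fun h => by rw [h, Equiv.Perm.support_one, Finset.card_empty] at hk; omega
  have ho : orderOf w = 2 := orderOf_eq_prime hw hw1
  obtain ⟨n, hn⟩ := Equiv.Perm.cycleType_prime_order (ho ▸ Nat.prime_two)
  rw [ho] at hn
  have hs := w.sum_cycleType
  rw [hn, Multiset.sum_replicate, smul_eq_mul, hk] at hs
  rw [Equiv.Perm.sign_of_cycleType, hn, Multiset.sum_replicate, Multiset.card_replicate, smul_eq_mul,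
    show (n + 1) * 2 + (n + 1) = 2 * (n + 1) + k by omega, pow_add, pow_mul]
  simp

variable {S : Type*} [Group S] [Finite S]

/-- A simple non-abelian group acts by even permutations. -/
theorem sign_eq_one [IsSimpleGroup S] (hS : ¬ IsMulCommutative S) {X : Type*} [Fintype X] [DecidableEq X]
    [MulAction S X] (g : S) : Equiv.Perm.sign (MulAction.toPermHom S X g) = 1 := by
  rcases IsSimpleGroup.eq_bot_or_eq_top_of_normal
    (Equiv.Perm.sign.comp (MulAction.toPermHom S X)).ker inferInstance with h | h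
  · refine absurd ⟨⟨fun a b => ?_⟩⟩ hS
    exact (MonoidHom.ker_eq_bot_iff _).1 h (by rw [map_mul, map_mul, mul_comm])
  · have : g ∈ (Equiv.Perm.sign.comp (MulAction.toPermHom S X)).ker := h ▸ Subgroup.mem_top g
    exact this

/-- The action of a simple group on a nontrivial transitive set is faithful. -/
theorem eq_one_of_forall_smul [IsSimpleGroup S] {X : Type*} [MulAction S X]
    [MulAction.IsPretransitive S X] [Nontrivial X] {g : S} (hg : ∀ x : X, g • x = x) : g = 1 := by
  rcases IsSimpleGroup.eq_bot_or_eq_top_of_normal (MulAction.toPermHom S X).ker inferInstance with h | h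
  · have : g ∈ (MulAction.toPermHom S X).ker := Equiv.ext hg
    rwa [h, Subgroup.mem_bot] at this
  · exfalso
    obtain ⟨a, b, hab⟩ := exists_pair_ne X
    obtain ⟨k, hk⟩ := MulAction.exists_smul_eq S a b
    have : k ∈ (MulAction.toPermHom S X).ker := h ▸ Subgroup.mem_top k
    exact hab ((Equiv.ext_iff.1 this a).symm.trans hk)

/-- The hypothesis. -/
structure Hyp (S : Type*) [Group S] : Prop where
  simple : IsSimpleGroup S
  noncomm : ¬ IsMulCommutative S
  card : Nat.card (Sylow 3 S) = 22

local notation "X" => Sylow 3 S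

/-- The orbit of `R` under `x`. -/
def orb (x R : X) : Set X := MulAction.orbit (x : Subgroup S) R

/-- `R` is a neighbour of `x`. -/
def Adj (x R : X) : Prop := x ≠ R ∧ (orb x R).ncard = 3

/-- The Sylow subgroups containing `x ⊓ R`. -/
def Line (x R : X) : Set X := {z | (x : Subgroup S) ⊓ R ≤ z}

omit [Finite S] in
theorem coe_smul (g : S) (x : X) : ((g • x : X) : Subgroup S) = MulAut.conj g • (x : Subgroup S) :=
  Sylow.coe_subgroup_smul

omit [Finite S] in
theorem smul_inf_smul (g : S) (x R : X) :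
    ((g • x : X) : Subgroup S) ⊓ (g • R : X) = MulAut.conj g • ((x : Subgroup S) ⊓ R) := by
  rw [coe_smul, coe_smul, Subgroup.smul_inf]

variable [Fact (Nat.Prime 3)]

theorem card_eq (x R : X) : Nat.card x = Nat.card R := by
  rw [x.card_eq_multiplicity, R.card_eq_multiplicity]

theorem self_mem_orb (x R : X) : R ∈ orb x R := MulAction.mem_orbit_self R

theorem orb_eq_of_mem {x R T : X} (hT : T ∈ orb x R) : orb x T = orb x R :=
  MulAction.orbit_eq_iff.2 hT

theorem ne_of_mem_orb {x R T : X} (hne : x ≠ R) (hT : T ∈ orb x R) : x ≠ T := by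
  obtain ⟨g, rfl⟩ := hT
  intro he
  refine hne (MulAction.injective (g : S) ?_)
  have h2 : ((g : S) • x : X) = x :=
    Sylow.smul_eq_iff_mem_normalizer.2 (Subgroup.le_normalizer g.2)
  exact h2.trans he

theorem smul_mem_orb (g : S) {x R T : X} (hT : T ∈ orb x R) : g • T ∈ orb (g • x) (g • R) := by
  obtain ⟨a, rfl⟩ := hT
  refine ⟨⟨g * a * g⁻¹, ?_⟩, ?_⟩
  · rw [coe_smul, Subgroup.mem_pointwise_smul_iff_inv_smul_mem, MulAut.smul_def, ← map_inv]
    simp [mul_assoc]
  · show (g * a * g⁻¹) • g • R = g • ((a : S) • R)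
    rw [smul_smul, smul_smul, inv_mul_cancel_right]

theorem ncard_orb_smul (g : S) (x R : X) : (orb (g • x) (g • R)).ncard = (orb x R).ncard := by
  have : orb (g • x) (g • R) = (g • ·) '' orb x R := by
    ext T
    constructor
    · intro hT
      refine ⟨g⁻¹ • T, ?_, smul_inv_smul g T⟩
      have := smul_mem_orb g⁻¹ hT
      rwa [inv_smul_smul, inv_smul_smul] at this
    · rintro ⟨T, hT, rfl⟩
      exact smul_mem_orb g hT
  rw [this, Set.ncard_image_of_injective _ (MulAction.injective g)]

theorem adj_smul (g : S) {x R : X} (h : Adj x R) : Adj (g • x) (g • R) :=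
  ⟨fun he => h.1 (MulAction.injective g he), by rw [ncard_orb_smul]; exact h.2⟩

omit [Fact (Nat.Prime 3)] in
theorem mem_line_smul (g : S) {x R z : X} (h : z ∈ Line x R) : g • z ∈ Line (g • x) (g • R) := by
  show ((g • x : X) : Subgroup S) ⊓ (g • R : X) ≤ ((g • z : X) : Subgroup S)
  rw [smul_inf_smul, coe_smul]
  exact Subgroup.pointwise_smul_le_pointwise_smul_iff.2 h

theorem card_inter_mul (x R : X) :
    Nat.card ((x : Subgroup S) ⊓ R : Subgroup S) * (orb x R).ncard = Nat.card x := by
  have hstab : MulAction.stabilizer (x : Subgroup S) R = ((x : Subgroup S) ⊓ R).subgroupOf x := by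
    ext g
    rw [MulAction.mem_stabilizer_iff, Subgroup.mem_subgroupOf, Subgroup.smul_def,
      Sylow.smul_eq_iff_mem_normalizer]
    constructor
    · intro h
      exact (x.isPGroup'.inf_normalizer_sylow R).le ⟨g.2, h⟩
    · exact fun h => Subgroup.le_normalizer h.2
  have h1 := Subgroup.card_mul_index (MulAction.stabilizer (x : Subgroup S) R)
  rw [MulAction.index_stabilizer, hstab,
    Nat.card_congr (Subgroup.subgroupOfEquivOfLe inf_le_left).toEquiv] at h1
  exact h1

section
variable (h : Hyp S)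
include h

theorem orb_ncard {x R : X} (hne : x ≠ R) : (orb x R).ncard = 3 ∨ (orb x R).ncard = 9 := by
  obtain ⟨i, hi⟩ := IsPGroup.iff_card.1 x.isPGroup'
  have hdvd : (orb x R).ncard ∣ 3 ^ i := ⟨Nat.card ((x : Subgroup S) ⊓ R : Subgroup S), by
    rw [← hi, ← card_inter_mul x R, mul_comm]⟩
  obtain ⟨j, -, hj⟩ := (Nat.dvd_prime_pow (Fact.out : Nat.Prime 3)).1 hdvd
  have hle : (orb x R).ncard ≤ 22 := by
    rw [← h.card, ← Set.ncard_univ]
    exact Set.ncard_le_ncard (Set.subset_univ _)
  have hj3 : j < 3 := by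
    by_contra hc
    have : 3 ^ 3 ≤ 3 ^ j := Nat.pow_le_pow_right (by norm_num) (not_lt.1 hc)
    omega
  interval_cases j
  · exfalso
    have h1 := card_inter_mul x R
    rw [hj, pow_zero, mul_one] at h1
    have h2 : (x : Subgroup S) ≤ R :=
      inf_eq_left.1 (Subgroup.eq_of_le_of_card_ge inf_le_left h1.ge)
    exact hne (Sylow.ext (Subgroup.eq_of_le_of_card_ge h2 (card_eq R x).le))
  · exact Or.inl hj
  · exact Or.inr hj

theorem adj_iff {x R : X} (hne : x ≠ R) :
    Adj x R ↔ Nat.card ((x : Subgroup S) ⊓ R : Subgroup S) * 3 = Nat.card x := by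
  refine ⟨fun hA => (by
    have h1 := card_inter_mul x R
    rwa [hA.2] at h1), fun hc => ⟨hne, ?_⟩⟩
  exact Nat.eq_of_mul_eq_mul_left Nat.card_pos ((card_inter_mul x R).trans hc.symm)

theorem adj_symm {x R : X} (hA : Adj x R) : Adj R x := by
  rw [adj_iff h hA.1.symm, inf_comm, card_eq R x]
  exact (adj_iff h hA.1).1 hA

theorem inter_normal {x R : X} (hA : Adj x R) :
    (x : Subgroup S) ≤ Subgroup.normalizer (((x : Subgroup S) ⊓ R : Subgroup S) : Set S) := by
  refine (Subgroup.normal_subgroupOf_iff_le_normalizer inf_le_left).1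
    (Subgroup.normal_of_index_eq_minFac_card ?_)
  have h1 := Subgroup.card_mul_index (((x : Subgroup S) ⊓ R).subgroupOf (x : Subgroup S))
  rw [Nat.card_congr (Subgroup.subgroupOfEquivOfLe inf_le_left).toEquiv,
    ← (adj_iff h hA.1).1 hA] at h1
  obtain ⟨i, hi⟩ := IsPGroup.iff_card.1 x.isPGroup'
  have hi0 : i ≠ 0 := fun hi0 => by
    have h2 := (adj_iff h hA.1).1 hA
    rw [hi, hi0, pow_zero] at h2
    omega
  rw [Nat.eq_of_mul_eq_mul_left Nat.card_pos h1, hi, Nat.Prime.pow_minFac Fact.out hi0]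

theorem orb_subset_line {x R : X} (hA : Adj x R) : orb x R ⊆ Line x R := by
  rintro T ⟨g, rfl⟩ d hd
  show d ∈ ((g : S) • R : X)
  show d ∈ MulAut.conj (g : S) • (R : Subgroup S)
  rw [Subgroup.mem_pointwise_smul_iff_inv_smul_mem, MulAut.smul_def, ← map_inv, MulAut.conj_apply]
  exact ((Subgroup.mem_normalizer_iff.1 (inv_mem (inter_normal h hA g.2)) d).1 hd).2

theorem inter_eq_of_mem_line {x R z w : X} (hA : Adj x R) (hz : z ∈ Line x R) (hw : w ∈ Line x R)
    (hne : z ≠ w) : (z : Subgroup S) ⊓ w = (x : Subgroup S) ⊓ R ∧ Adj z w := by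
  have h1 : (x : Subgroup S) ⊓ R ≤ (z : Subgroup S) ⊓ w := le_inf hz hw
  have h2 := card_inter_mul z w
  have h3 := (adj_iff h hA.1).1 hA
  rw [card_eq z x, ← h3] at h2
  have h4 := Subgroup.card_le_of_le h1
  have h6 : (orb z w).ncard = 3 := by
    rcases orb_ncard h hne with h5 | h5
    · exact h5
    · exfalso
      rw [h5] at h2
      have : 0 < Nat.card ((x : Subgroup S) ⊓ R : Subgroup S) := Nat.card_pos
      omega
  rw [h6] at h2
  exact ⟨(Subgroup.eq_of_le_of_card_ge h1 (by omega)).symm, hne, h6⟩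

theorem normalizer_maximal (x : X) {H : Subgroup S}
    (hle : Subgroup.normalizer (x : Set S) ≤ H) : H = Subgroup.normalizer (x : Set S) ∨ H = ⊤ := by
  have hidx : (Subgroup.normalizer (x : Set S)).index = 22 := by
    rw [← Sylow.card_eq_index_normalizer x, h.card]
  have hxH : (x : Subgroup S) ≤ H := Subgroup.le_normalizer.trans hle
  have hNH : (Subgroup.normalizer ((x.subtype hxH : Subgroup H) : Set H)) =
      (Subgroup.normalizer (x : Set S)).subgroupOf H := by
    rw [Sylow.coe_subtype]
    exact (Subgroup.subgroupOf_normalizer_eq hxH).symm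
  have hn : Nat.card (Sylow 3 H) * H.index = 22 := by
    rw [Sylow.card_eq_index_normalizer (x.subtype hxH)]
    show (Subgroup.normalizer ((x.subtype hxH : Subgroup H) : Set H)).index * _ = _
    rw [hNH, ← Subgroup.relIndex, Subgroup.relIndex_mul_index hle, hidx]
  have hmod := card_sylow_modEq_one 3 H
  have hd : Nat.card (Sylow 3 H) ∣ 22 := ⟨H.index, hn.symm⟩
  have hle22 := Nat.le_of_dvd (by norm_num) hd
  unfold Nat.ModEq at hmod
  by_cases h1 : Nat.card (Sylow 3 H) = 1
  · left
    refine (Subgroup.eq_of_le_of_card_ge hle ?_).symm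
    have e1 := Subgroup.card_mul_index H
    rw [← Subgroup.card_mul_index (Subgroup.normalizer (x : Set S)), hidx, ← hn, h1, one_mul] at e1
    exact (Nat.eq_of_mul_eq_mul_right (by
      have := hn; rw [h1, one_mul] at this; omega) e1).le
  · right
    have h22 : Nat.card (Sylow 3 H) = 22 := by
      interval_cases hh : Nat.card (Sylow 3 H) <;> omega
    rw [h22] at hn
    exact Subgroup.index_eq_one.1 (by omega)

/-- A line stable under the stabiliser of its point forces a trivial intersection. -/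
theorem inter_eq_bot {x R : X} (hA : Adj x R)
    (hstab : ∀ n : S, n • x = x → n • R ∈ Line x R) : (x : Subgroup S) ⊓ R = ⊥ := by
  haveI := h.simple
  set D := (x : Subgroup S) ⊓ R with hD
  have hle : Subgroup.normalizer (x : Set S) ≤ Subgroup.normalizer (D : Set S) := by
    intro n hn
    have hnx : n • x = x := Sylow.smul_eq_iff_mem_normalizer.2 hn
    have h1 : D ≤ MulAut.conj n • D := by
      rw [hD, ← smul_inf_smul, hnx]
      exact le_inf inf_le_left (hstab n hnx)
    have h2 : MulAut.conj n • D = D := (Subgroup.eq_of_le_of_card_ge h1 (by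
      rw [Nat.card_congr (Subgroup.equivSMul (MulAut.conj n) D).toEquiv])).symm
    rw [Subgroup.mem_normalizer_iff]
    intro d
    conv_rhs => rw [← h2]
    exact (Subgroup.smul_mem_pointwise_smul_iff (a := MulAut.conj n) (x := d)).symm
  have hR : (R : Subgroup S) ≤ Subgroup.normalizer (D : Set S) := by
    have := inter_normal h (adj_symm h hA)
    rwa [inf_comm] at this
  rcases normalizer_maximal h x hle with hN | hN
  · exfalso
    rw [hN] at hR
    refine hA.1 (Sylow.ext (Subgroup.eq_of_le_of_card_ge (fun g hg => ?_) (card_eq x R).le)).symm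
    exact ((R.isPGroup'.inf_normalizer_sylow x).le ⟨hg, hR hg⟩).2
  · haveI : D.Normal := Subgroup.normalizer_eq_top_iff.1 hN
    refine (IsSimpleGroup.eq_bot_or_eq_top_of_normal D inferInstance).resolve_right fun ht => ?_
    have h3 := (adj_iff h hA.1).1 hA
    have h4 := Subgroup.card_le_card_group (x : Subgroup S)
    rw [← hD, ht, Subgroup.card_top] at h3
    have : 0 < Nat.card S := Nat.card_pos
    omega

theorem all_adj_of_card (x : X) (hx : Nat.card x = 3) {y R : X} (hne : y ≠ R) : Adj y R := by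
  refine ⟨hne, (orb_ncard h hne).resolve_right fun h9 => ?_⟩
  have := Nat.le_of_dvd (by norm_num) (show (orb y R).ncard ∣ 3 from
    ⟨Nat.card ((y : Subgroup S) ⊓ R : Subgroup S), (((card_inter_mul y R).trans ((card_eq y x).trans hx)).symm.trans (mul_comm _ _))⟩)
  omega

theorem nontrivial_X : Nontrivial X :=
  (Finite.one_lt_card_iff_nontrivial).1 (by rw [h.card]; norm_num)

theorem eq_one_of_fixed {g : S} (hg : ∀ z : X, g • z = z) : g = 1 := by
  haveI := h.simple
  haveI := nontrivial_X h
  exact eq_one_of_forall_smul hg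

/-- No element of order 11 fixes a point. -/
theorem no_eleven {y : S} (hy : y ^ 11 = 1) {x : X} (hx : y • x = x) : y = 1 := by
  classical
  by_contra hy1
  obtain ⟨Q, hQ⟩ : ∃ Q : X, y • Q ≠ Q := by
    by_contra hc
    push Not at hc
    exact hy1 (eq_one_of_fixed h hc)
  have ho : orderOf y = 11 := by
    haveI := Fact.mk (by norm_num : Nat.Prime 11)
    exact orderOf_eq_prime hy hy1
  have hgen : ∀ k, ¬ 11 ∣ k → ∃ m : ℕ, (y ^ k) ^ m = y := fun k hk =>
    exists_pow_eq_self_of_coprime (by
      rw [ho]; exact ((by norm_num : Nat.Prime 11).coprime_iff_not_dvd.2 hk).symm)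
  have hpowfix : ∀ (g : S) (z : X), g • z = z → ∀ m : ℕ, g ^ m • z = z := by
    intro g z hgz m
    induction m with
    | zero => simp
    | succ m ih => rw [pow_succ, mul_smul, hgz, ih]
  have hxQ : x ≠ Q := fun he => hQ (he ▸ hx)
  have hxk : ∀ k : ℕ, y ^ k • x = x := hpowfix y x hx
  have hout : ∀ k : ℕ, ¬ 11 ∣ k → y ^ k • Q ∉ orb x Q := by
    intro k hk hmem
    obtain ⟨m, hm⟩ := hgen k hk
    have hinv : ∀ T ∈ orb x Q, y • T ∈ orb x Q := by
      intro T hT
      rw [← hm]
      clear hm
      induction m with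
      | zero => simpa using hT
      | succ m ih =>
        rw [pow_succ', mul_smul]
        have := smul_mem_orb (y ^ k) ih
        rwa [hxk k, orb_eq_of_mem hmem] at this
    have hall : ∀ j : ℕ, y ^ j • Q ∈ orb x Q := by
      intro j
      induction j with
      | zero => rw [pow_zero, one_smul]; exact self_mem_orb x Q
      | succ j ih => rw [pow_succ', mul_smul]; exact hinv _ ih
    have hinj : Function.Injective fun j : Fin 11 => y ^ (j : ℕ) • Q := by
      intro a b hab
      by_contra hne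
      wlog hlt : (a : ℕ) < b generalizing a b
      · exact this hab.symm (Ne.symm hne) (by
          have : (a : ℕ) ≠ b := fun h => hne (Fin.ext h)
          omega)
      have hd : ¬ 11 ∣ (b : ℕ) - a := fun hd => by have := Nat.le_of_dvd (by omega) hd; omega
      obtain ⟨m', hm'⟩ := hgen _ hd
      refine hQ ?_
      rw [← hm']
      refine hpowfix _ _ (MulAction.injective (y ^ (a : ℕ)) ?_) m'
      show y ^ (a : ℕ) • y ^ ((b : ℕ) - a) • Q = y ^ (a : ℕ) • Q
      rw [smul_smul, ← pow_add, Nat.add_sub_cancel' hlt.le]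
      exact hab.symm
    have h11 := Set.ncard_le_ncard (s := Set.range fun j : Fin 11 => y ^ (j : ℕ) • Q) (t := orb x Q)
      (by rintro _ ⟨j, rfl⟩; exact hall _)
    rw [← Nat.card_coe_set_eq, Nat.card_range_of_injective hinj, Nat.card_fin] at h11
    rcases orb_ncard h hxQ with h3 | h3 <;> omega
  letI := Fintype.ofFinite X
  let f : Fin 11 → Finset X := fun j => (orb x (y ^ (j : ℕ) • Q)).toFinite.toFinset
  have hdisj : ∀ a ∈ (Finset.univ : Finset (Fin 11)), ∀ b ∈ (Finset.univ : Finset (Fin 11)),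
      a ≠ b → Disjoint (f a) (f b) := by
    intro a _ b _ hne
    wlog hlt : (a : ℕ) < b generalizing a b
    · exact (this b (Finset.mem_univ _) a (Finset.mem_univ _) hne.symm (by
        have : (a : ℕ) ≠ b := fun h => hne (Fin.ext h)
        omega)).symm
    rw [Finset.disjoint_left]
    intro T hTa hTb
    have e : orb x (y ^ (b : ℕ) • Q) = orb x (y ^ (a : ℕ) • Q) := by
      rw [← orb_eq_of_mem ((Set.Finite.mem_toFinset _).1 hTa),
        orb_eq_of_mem ((Set.Finite.mem_toFinset _).1 hTb)]
    have hm : y ^ (b : ℕ) • Q ∈ orb x (y ^ (a : ℕ) • Q) := e ▸ self_mem_orb _ _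
    have h2 := smul_mem_orb (y ^ (11 - (a : ℕ))) hm
    rw [hxk, smul_smul, smul_smul, ← pow_add, ← pow_add, show 11 - (a : ℕ) + a = 11 by omega,
      show 11 - (a : ℕ) + b = 11 + ((b : ℕ) - a) by omega, pow_add, hy, one_mul, one_smul] at h2
    exact hout _ (fun hd => by have := Nat.le_of_dvd (by omega) hd; omega) h2
  have hcard := Finset.card_le_univ (Finset.univ.biUnion f)
  rw [Finset.card_biUnion hdisj, ← Nat.card_eq_fintype_card, h.card] at hcard
  have h3 : ∀ j, 3 ≤ (f j).card := fun j => by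
    rw [← Set.ncard_eq_toFinset_card]
    have hne : x ≠ y ^ (j : ℕ) • Q := fun he =>
      hxQ (MulAction.injective (y ^ (j : ℕ)) ((hxk j).trans he))
    rcases orb_ncard h hne with h3 | h3 <;> omega
  have := Finset.sum_le_sum (s := (Finset.univ : Finset (Fin 11))) fun j _ => h3 j
  simp at this
  omega

end

end CfsgLib.Components2.TwentyTwo
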